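import Mathlib.LinearAlgebra.Charpoly.ToMatrix
import Mathlib.LinearAlgebra.Charpoly.BaseChange
import Mathlib.RingTheory.Ideal.AssociatedPrime.Localization
import Mathlib.RingTheory.LocalRing.Module
import Mathlib.RingTheory.Localization.Module
import Mathlib.Algebra.Module.LocalizedModule.Exact
import Mathlib.Algebra.Polynomial.Div
import Mathlib.RingTheory.LocalProperties.Projective
import Mathlib.LinearAlgebra.TensorProduct.Quotient
import Groth.Prelude.Def_W4c1famcyclesFFR

/-!
# The determinant of an endomorphism of a module with a finite free resolution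
-/

set_option autoImplicit false
set_option linter.all false

universe u

open IsLocalRing Polynomial

namespace GrothLib.DetFFR6

section Linear

variable {R : Type u} [CommRing R] {K F M : Type u} [AddCommGroup K] [Module R K] [AddCommGroup F]
  [Module R F] [AddCommGroup M] [Module R M]

/-- The characteristic polynomial is multiplicative in short exact sequences of free modules. -/
theorem charpoly_eq_mul [Module.Free R K] [Module.Finite R K] [Module.Free R F] [Module.Finite R F]
    [Module.Free R M] [Module.Finite R M] (ι : K →ₗ[R] F) (hι : Function.Injective ι) (π : F →ₗ[R] M)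
    (hπ : Function.Surjective π) (hex : Function.Exact ι π) (g : K →ₗ[R] K) (f : F →ₗ[R] F)
    (h : M →ₗ[R] M) (h1 : f ∘ₗ ι = ι ∘ₗ g) (h2 : π ∘ₗ f = h ∘ₗ π) :
    f.charpoly = g.charpoly * h.charpoly := by
  classical
  obtain ⟨s, hs⟩ := Module.projective_lifting_property π LinearMap.id hπ
  have hs' : ∀ m, π (s m) = m := fun m => LinearMap.congr_fun hs m
  have h1' : ∀ k, f (ι k) = ι (g k) := fun k => LinearMap.congr_fun h1 k
  have h2' : ∀ x, π (f x) = h (π x) := fun x => LinearMap.congr_fun h2 x
  have hπι : ∀ k, π (ι k) = 0 := fun k => (hex _).mpr ⟨k, rfl⟩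
  let e : (K × M) →ₗ[R] F := ι.coprod s
  have he : Function.Bijective e := by
    constructor
    · refine (injective_iff_map_eq_zero e).mpr fun x hx => ?_
      have hx2 : x.2 = 0 := by
        have := congrArg π hx
        simpa [e, hπι, hs'] using this
      refine Prod.ext (hι ?_) hx2
      have : ι x.1 = 0 := by simpa [e, hx2] using hx
      simpa using this
    · intro x
      obtain ⟨k, hk⟩ := (hex (x - s (π x))).mp (by simp [hs'])
      exact ⟨(k, π x), by simp [e, hk]⟩
  let bK := Module.Free.chooseBasis R K
  let bM := Module.Free.chooseBasis R M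
  let bF := (bK.prod bM).map (LinearEquiv.ofBijective e he)
  rw [← LinearMap.charpoly_toMatrix f bF, ← LinearMap.charpoly_toMatrix g bK,
    ← LinearMap.charpoly_toMatrix h bM]
  have hrepr : ∀ x : K × M, bF.repr (e x) = (bK.prod bM).repr x := fun x => by
    show (bK.prod bM).repr ((LinearEquiv.ofBijective e he).symm (LinearEquiv.ofBijective e he x)) = _
    rw [LinearEquiv.symm_apply_apply]
  have hshape : LinearMap.toMatrix bF bF f = Matrix.fromBlocks (LinearMap.toMatrix bK bK g)
      (fun i j => LinearMap.toMatrix bF bF f (Sum.inl i) (Sum.inr j)) 0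
      (LinearMap.toMatrix bM bM h) := by
    ext i j
    rw [LinearMap.toMatrix_apply]
    obtain (j | j) := j
    · have hj : f (bF (Sum.inl j)) = e (g (bK j), 0) := by
        simp [bF, e, h1']
      rw [hj, hrepr]
      obtain (i | i) := i <;> simp [LinearMap.toMatrix_apply]
    · obtain (i | i) := i
      · simp [LinearMap.toMatrix_apply]
      · obtain ⟨⟨k, m⟩, hkm⟩ := he.2 (f (bF (Sum.inr j)))
        have hm : m = h (bM j) := by
          have := congrArg π hkm
          simpa [e, bF, hπι, hs', h2'] using this
        rw [← hkm, hrepr]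
        simp [LinearMap.toMatrix_apply, hm]
  rw [hshape, Matrix.charpoly_fromBlocks_zero₂₁]

/-- Over a local ring of depth zero, the cokernel of an injective map of finite free modules is free. -/
theorem free_of_depth_zero [IsLocalRing R] (c : R) (hc : c ≠ 0)
    (hcm : ∀ a ∈ maximalIdeal R, a * c = 0) [Module.Free R K] [Module.Finite R K] [Module.Free R F]
    [Module.Finite R F] (ι : K →ₗ[R] F) (hι : Function.Injective ι) (π : F →ₗ[R] M)
    (hπ : Function.Surjective π) (hex : Function.Exact ι π) : Module.Free R M := by
  refine Module.free_of_lTensor_residueField_injective ι π hπ hex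
    ((injective_iff_map_eq_zero _).mpr fun z hz => ?_)
  obtain ⟨v, rfl⟩ := TensorProduct.mk_surjective R K (ResidueField R) Ideal.Quotient.mk_surjective z
  have hmem : ι v ∈ maximalIdeal R • (⊤ : Submodule R F) := by
    have := (congrArg (TensorProduct.quotTensorEquivQuotSMul F (maximalIdeal R)) hz).trans
      (LinearEquiv.map_zero _)
    rw [← Submodule.Quotient.mk_eq_zero, ← this]
    show _ = TensorProduct.quotTensorEquivQuotSMul F (maximalIdeal R)
      ((Ideal.Quotient.mk (maximalIdeal R) 1) ⊗ₜ[R] ι v)
    rw [TensorProduct.quotTensorEquivQuotSMul_mk_tmul, one_smul]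
  have hcv : c • v = 0 := hι (by
    rw [map_smul, map_zero]
    refine Submodule.smul_induction_on hmem (fun a ha x _ => ?_) fun x y hx hy => ?_
    · rw [smul_smul, mul_comm, hcm a ha, zero_smul]
    · rw [smul_add, hx, hy, add_zero])
  let b := Module.Free.chooseBasis R K
  have hv : v ∈ maximalIdeal R • (⊤ : Submodule R K) := by
    rw [← b.sum_repr v]
    refine Submodule.sum_mem _ fun i _ => Submodule.smul_mem_smul ?_ trivial
    rw [mem_maximalIdeal]
    intro hu
    refine hc (hu.mul_left_eq_zero.mp ?_)
    simpa using congrArg (fun w => b.repr w i) hcv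
  refine (TensorProduct.quotTensorEquivQuotSMul K (maximalIdeal R)).injective
    (Eq.trans ?_ (LinearEquiv.map_zero _).symm)
  show TensorProduct.quotTensorEquivQuotSMul K (maximalIdeal R)
      ((Ideal.Quotient.mk (maximalIdeal R) 1) ⊗ₜ[R] v) = 0
  rw [TensorProduct.quotTensorEquivQuotSMul_mk_tmul, one_smul, Submodule.Quotient.mk_eq_zero]
  exact hv

end Linear

variable {A : Type u} [CommRing A] [IsNoetherianRing A]

/-- A depth-zero witness at an associated prime. -/
theorem exists_socle (p : Ideal A) [p.IsPrime] (hp : p ∈ associatedPrimes A A) :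
    ∃ c : Localization.AtPrime p, c ≠ 0 ∧ ∀ a ∈ maximalIdeal (Localization.AtPrime p), a * c = 0 := by
  haveI : IsNoetherianRing (Localization.AtPrime p) :=
    IsLocalization.isNoetherianRing p.primeCompl _ inferInstance
  have h := Module.associatedPrimes.mem_associatedPrimes_atPrime_of_mem_associatedPrimes
    (M := A) hp
  obtain ⟨-, x, hx⟩ := isAssociatedPrime_iff.mp h
  let e : LocalizedModule.AtPrime p A ≃ₗ[Localization.AtPrime p] Localization.AtPrime p :=
    ((IsLocalizedModule.linearEquiv p.primeCompl (LocalizedModule.mkLinearMap p.primeCompl A)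
      (Algebra.linearMap A (Localization.AtPrime p))).extendScalarsOfIsLocalization p.primeCompl _)
  refine ⟨e x, fun h0 => ?_, fun a ha => ?_⟩
  · have hx0 : x = 0 := e.injective (h0.trans (map_zero e).symm)
    refine (maximalIdeal.isMaximal (Localization.AtPrime p)).ne_top ?_
    rw [hx, Ideal.eq_top_iff_one, Submodule.mem_colon_singleton, one_smul, hx0]
    exact zero_mem _
  · rw [hx, Submodule.mem_colon_singleton, Submodule.mem_bot] at ha
    rw [← smul_eq_mul, ← map_smul, ha, map_zero]

/-- An element vanishing at all associated primes is zero. -/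
theorem eq_zero_of_assoc {r : A}
    (h : ∀ (p : Ideal A) [p.IsPrime], p ∈ associatedPrimes A A →
      algebraMap A (Localization.AtPrime p) r = 0) : r = 0 := by
  by_contra hr
  obtain ⟨P, hP, hle⟩ := exists_le_isAssociatedPrime_of_isNoetherianRing A r hr
  haveI := hP.isPrime
  obtain ⟨⟨t, ht⟩, htr⟩ := (IsLocalization.map_eq_zero_iff P.primeCompl _ r).mp (h P hP)
  exact ht (hle (Submodule.mem_colon_singleton.mpr ((Submodule.mem_bot A).mpr htr)))

/-- The localization of an endomorphism. -/
noncomputable abbrev loc (p : Ideal A) [p.IsPrime] {M N : Type u} [AddCommGroup M] [Module A M]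
    [AddCommGroup N] [Module A N] (f : M →ₗ[A] N) :=
  LocalizedModule.map p.primeCompl f

theorem loc_comp (p : Ideal A) [p.IsPrime] {M N P : Type u} [AddCommGroup M] [Module A M]
    [AddCommGroup N] [Module A N] [AddCommGroup P] [Module A P] (f : M →ₗ[A] N) (g : N →ₗ[A] P) :
    loc p (g ∘ₗ f) = loc p g ∘ₗ loc p f := by
  refine LinearMap.ext fun x => ?_
  induction x using LocalizedModule.induction_on with
  | h m s => simp [loc, LocalizedModule.map_mk]

theorem exact_loc (p : Ideal A) [p.IsPrime] {K F M : Type u} [AddCommGroup K] [Module A K]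
    [AddCommGroup F] [Module A F] [AddCommGroup M] [Module A M] (ι : K →ₗ[A] F)
    (hι : Function.Injective ι) (π : F →ₗ[A] M) (hπ : Function.Surjective π)
    (hex : Function.Exact ι π) :
    Function.Injective (loc p ι) ∧ Function.Surjective (loc p π) ∧
      Function.Exact (loc p ι) (loc p π) :=
  ⟨LocalizedModule.map_injective _ ι hι, LocalizedModule.map_surjective _ π hπ,
    LocalizedModule.map_exact _ ι π hex⟩

/-- The characteristic polynomial commutes with localization. -/
theorem charpoly_loc (p : Ideal A) [p.IsPrime] {F : Type u} [AddCommGroup F] [Module A F]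
    [Module.Free A F] [Module.Finite A F] [Module.Free (Localization.AtPrime p) (LocalizedModule p.primeCompl F)]
    (f : F →ₗ[A] F) :
    (loc p f).charpoly = f.charpoly.map (algebraMap A (Localization.AtPrime p)) := by
  classical
  let b := Module.Free.chooseBasis A F
  let b' := b.ofIsLocalizedModule (Localization.AtPrime p) p.primeCompl
    (LocalizedModule.mkLinearMap p.primeCompl F)
  rw [← LinearMap.charpoly_toMatrix (loc p f) b', ← LinearMap.charpoly_toMatrix f b,
    ← Matrix.charpoly_map]
  congr 1
  ext i j
  rw [Matrix.map_apply, LinearMap.toMatrix_apply, LinearMap.toMatrix_apply,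
    Module.Basis.ofIsLocalizedModule_apply]
  show b'.repr (LocalizedModule.map p.primeCompl f (LocalizedModule.mk (b j) 1)) i = _
  rw [LocalizedModule.map_mk]
  exact Module.Basis.ofIsLocalizedModule_repr_apply _ _ _ _ _ _

/-- The statement proved by induction on the length of the resolution. -/
theorem main : ∀ (n : ℕ) (M : Type u) [AddCommGroup M] [Module A M],
    FamCyc.HasFiniteFreeResolutionLE A n M →
    Module.Finite A M ∧
    (∀ (p : Ideal A) [p.IsPrime], p ∈ associatedPrimes A A →
      Module.Free (Localization.AtPrime p) (LocalizedModule p.primeCompl M)) ∧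
    ∀ φ : M →ₗ[A] M, ∃ χ : A[X], χ.Monic ∧ ∀ (p : Ideal A) [p.IsPrime] [Module.Finite A M],
      ∀ _ : Module.Free (Localization.AtPrime p) (LocalizedModule p.primeCompl M),
        (loc p φ).charpoly = χ.map (algebraMap A (Localization.AtPrime p))
  | 0, M, _, _, h => by
    obtain ⟨hf, hfin⟩ := h
    refine ⟨hfin, fun p _ _ => ?_, fun φ => ⟨φ.charpoly, φ.charpoly_monic, fun p _ _ _ => charpoly_loc p φ⟩⟩
    exact Module.free_of_isLocalizedModule p.primeCompl (LocalizedModule.mkLinearMap p.primeCompl M)
  | n + 1, M, _, _, h => by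
    obtain ⟨k, π, hπ, hK⟩ := h
    obtain ⟨hKfin, hKfree, hKχ⟩ := main n (LinearMap.ker π) hK
    haveI := hKfin
    have hMfin : Module.Finite A M := Module.Finite.of_surjective π hπ
    let ι := (LinearMap.ker π).subtype
    have hι : Function.Injective ι := Subtype.val_injective
    have hex : Function.Exact ι π := LinearMap.exact_subtype_ker_map π
    have hFfree : ∀ (p : Ideal A) [p.IsPrime],
        Module.Free (Localization.AtPrime p) (LocalizedModule p.primeCompl (Fin k → A)) := fun p _ =>
      Module.free_of_isLocalizedModule p.primeCompl (LocalizedModule.mkLinearMap p.primeCompl (Fin k → A))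
    refine ⟨hMfin, fun p _ hp => ?_, fun φ => ?_⟩
    · haveI := hKfree p hp
      haveI := hFfree p
      obtain ⟨c, hc, hcm⟩ := exists_socle p hp
      obtain ⟨h1, h2, h3⟩ := exact_loc p ι hι π hπ hex
      exact free_of_depth_zero c hc hcm (loc p ι) h1 (loc p π) h2 h3
    · obtain ⟨ψ, hψ⟩ := Module.projective_lifting_property π (φ ∘ₗ π) hπ
      have hψ' : ∀ x, π (ψ x) = φ (π x) := fun x => LinearMap.congr_fun hψ x
      let g : LinearMap.ker π →ₗ[A] LinearMap.ker π := ψ.restrict fun x hx => by
        rw [LinearMap.mem_ker] at hx ⊢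
        rw [hψ', hx, map_zero]
      obtain ⟨χK, hχK, hχK'⟩ := hKχ g
      have hg : ψ ∘ₗ ι = ι ∘ₗ g := LinearMap.ext fun x => rfl
      -- multiplicativity at primes where everything is free
      have key : ∀ (p : Ideal A) [p.IsPrime],
          Module.Free (Localization.AtPrime p) (LocalizedModule p.primeCompl M) →
          ∃ c : (Localization.AtPrime p)[X], c.Monic ∧
            (∀ _ : Module.Finite A M, ∀ _ : Module.Free (Localization.AtPrime p) (LocalizedModule p.primeCompl M),
              (loc p φ).charpoly = c) ∧
            ψ.charpoly.map (algebraMap A (Localization.AtPrime p)) =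
              χK.map (algebraMap A (Localization.AtPrime p)) * c := by
        intro p _ hfree
        haveI := hfree
        haveI := hFfree p
        haveI := hMfin
        obtain ⟨h1, h2, h3⟩ := exact_loc p ι hι π hπ hex
        haveI : Module.Finite (Localization.AtPrime p) (LocalizedModule p.primeCompl (LinearMap.ker π)) :=
          inferInstance
        haveI hKp : Module.Free (Localization.AtPrime p) (LocalizedModule p.primeCompl (LinearMap.ker π)) := by
          obtain ⟨s, hs⟩ := Module.projective_lifting_property (loc p π) LinearMap.id h2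
          obtain ⟨e⟩ : Nonempty ((LocalizedModule p.primeCompl (Fin k → A)) ≃ₗ[Localization.AtPrime p]
              LocalizedModule p.primeCompl (LinearMap.ker π) × LocalizedModule p.primeCompl M) :=
            ⟨((h3.splitSurjectiveEquiv h1) ⟨s, hs⟩).1⟩
          haveI : Module.Projective (Localization.AtPrime p) (LocalizedModule p.primeCompl (LinearMap.ker π)) :=
            Module.Projective.of_split (e.symm.toLinearMap ∘ₗ LinearMap.inl _ _ _)
              (LinearMap.fst _ _ _ ∘ₗ e.toLinearMap) (LinearMap.ext fun x => by simp)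
          exact Module.free_of_flat_of_isLocalRing (R := Localization.AtPrime p)
            (P := LocalizedModule p.primeCompl (LinearMap.ker π))
        refine ⟨(loc p φ).charpoly, LinearMap.charpoly_monic _, fun _ _ => rfl, ?_⟩
        rw [← charpoly_loc p ψ, ← hχK' p hKp]
        exact charpoly_eq_mul (loc p ι) h1 (loc p π) h2 h3 (loc p g) (loc p ψ) (loc p φ)
          (by rw [← loc_comp, hg, loc_comp]) (by rw [← loc_comp, hψ, loc_comp])
      refine ⟨ψ.charpoly /ₘ χK, ?_, fun p _ _ hfree => ?_⟩
      all_goals
        have hmod : ψ.charpoly %ₘ χK = 0 := by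
          ext i
          rw [coeff_zero]
          refine eq_zero_of_assoc fun p _ hp => ?_
          haveI := hKfree p hp
          haveI := hFfree p
          obtain ⟨c₀, hc₀, hcm⟩ := exists_socle p hp
          obtain ⟨h1, h2, h3⟩ := exact_loc p ι hι π hπ hex
          obtain ⟨c, -, -, hmul⟩ := key p (free_of_depth_zero c₀ hc₀ hcm (loc p ι) h1 (loc p π) h2 h3)
          rw [← Polynomial.coeff_map, Polynomial.map_modByMonic _ hχK, hmul,
            (modByMonic_eq_zero_iff_dvd (hχK.map _)).mpr (dvd_mul_right _ _), coeff_zero]
        have hdiv : χK * (ψ.charpoly /ₘ χK) = ψ.charpoly := by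
          simpa [hmod] using modByMonic_add_div ψ.charpoly χK
      · exact hχK.of_mul_monic_left (hdiv.symm ▸ ψ.charpoly_monic)
      · obtain ⟨c, hc, hc', hmul⟩ := key p hfree
        rw [hc' hMfin hfree]
        refine (hχK.map (algebraMap A (Localization.AtPrime p))).isRegular.left ?_
        show _ * c = _ * _
        rw [← hmul, ← Polynomial.map_mul, hdiv]

/-- Existence and uniqueness of the determinant. -/
theorem existsUnique_det (M : Type u) [AddCommGroup M] [Module A M] (n : ℕ)
    (hM : FamCyc.HasFiniteFreeResolutionLE A n M) (φ : M →ₗ[A] M) :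
    ∃! a : A, ∀ (p : Ideal A) [p.IsPrime],
      Module.Free (Localization.AtPrime p) (LocalizedModule p.primeCompl M) →
        algebraMap A (Localization.AtPrime p) a =
          LinearMap.det (LocalizedModule.map p.primeCompl φ) := by
  obtain ⟨hfin, hfree, hχ⟩ := main n M hM
  obtain ⟨χ, hmon, hχ'⟩ := hχ φ
  refine ⟨(-1) ^ χ.natDegree * χ.coeff 0, fun p _ hp => ?_, fun a ha => ?_⟩
  · haveI := hfin
    haveI := hp
    rw [LinearMap.det_eq_sign_charpoly_coeff, ← LinearMap.charpoly_natDegree (loc p φ), hχ' p hp,
      hmon.natDegree_map, Polynomial.coeff_map, map_mul, map_pow, map_neg, map_one]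
  · refine sub_eq_zero.mp (eq_zero_of_assoc fun p _ hp => ?_)
    haveI := hfin
    haveI := hfree p hp
    rw [map_sub, ha p inferInstance, sub_eq_zero, LinearMap.det_eq_sign_charpoly_coeff,
      ← LinearMap.charpoly_natDegree (loc p φ), hχ' p inferInstance,
      hmon.natDegree_map, Polynomial.coeff_map, map_mul, map_pow, map_neg, map_one]

end GrothLib.DetFFR6
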